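import Cfsg.Agent.E7P.Base.EqU

/-!
# S5932: the interface of ALG (`TorW ⇒ Alg`) (helper32)

See `notes/E7P/alg.md`.
* `Kf.MA`, `Kf.Reg` : regular maps, `Kf.PA`, `Kf.LA` : polynomial and Laurent functions; `Kf.constP`, `Kf.constL` : rigidity;
* `Kf.co` : cocharacters; `Kf.PL` : polynomial maps with a linear term;
* `Kf.ADDPOLY, UNIQ, FRAME, LIEPOLY, RINGD, RINGE, COUNT, LIFT` : the statements of the lemmas;
* `Sit.Good, Sg, Ut, IRRF, Sig, AbU, Sec, Rts` : the steps.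
-/

set_option autoImplicit false
set_option maxRecDepth 100000

namespace Cfsg.Agent.E7P

open Cfsg Cfsg.Lie Matrix Module
open Cfsg.Agent.H943.E7V.Block (D1 rho)
open Cfsg.Agent.R2.T1 Cfsg.Agent.E7P.Kf
open Cfsg.Agent.R2.PX (del)
open Cfsg.Agent.H943.SL2Rel (u w h)

universe u v

namespace Kf

variable {k : Type u} [Field k]

section
variable {X : Type*}

/-- matrix-valued functions with entries in `𝒜` -/
def MA (𝒜 : Subalgebra k (X → k)) (I : Type*) [Fintype I] [DecidableEq I] : Subalgebra k (X → Matrix I I k) where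
  carrier := {f | ∀ i j, (fun x => f x i j) ∈ 𝒜}
  mul_mem' := by
    intro f g hf hg i j
    have e : (fun x => (f * g) x i j) = ∑ m, (fun x => f x i m) * fun x => g x m j := by
      funext x
      rw [Finset.sum_apply, Pi.mul_apply, mul_apply]
      rfl
    rw [e]
    exact sum_mem fun m _ => mul_mem (hf i m) (hg m j)
  add_mem' := fun hf hg i j => add_mem (hf i j) (hg i j)
  algebraMap_mem' := fun c i j => 𝒜.algebraMap_mem ((algebraMap k (Matrix I I k) c) i j)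

theorem mem_MA {𝒜 : Subalgebra k (X → k)} {I : Type*} [Fintype I] [DecidableEq I] {f : X → Matrix I I k} :
    f ∈ MA 𝒜 I ↔ ∀ i j, (fun x => f x i j) ∈ 𝒜 := Iff.rfl

theorem const_mem_MA (𝒜 : Subalgebra k (X → k)) {I : Type*} [Fintype I] [DecidableEq I] (A : Matrix I I k) :
    (fun _ => A) ∈ MA 𝒜 I := fun i j => 𝒜.algebraMap_mem (A i j)

theorem smul_mem_MA {𝒜 : Subalgebra k (X → k)} {I : Type*} [Fintype I] [DecidableEq I] {c : X → k} (hc : c ∈ 𝒜)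
    (A : Matrix I I k) : (fun x => c x • A) ∈ MA 𝒜 I := fun i j => mul_mem hc (𝒜.algebraMap_mem (A i j))

theorem det_mem {𝒜 : Subalgebra k (X → k)} {I : Type*} [Fintype I] [DecidableEq I] {f : X → Matrix I I k}
    (hf : f ∈ MA 𝒜 I) : (fun x => (f x).det) ∈ 𝒜 := by
  have e : (fun x => (f x).det) = ∑ σ : Equiv.Perm I, (Equiv.Perm.sign σ : ℤ) • ∏ i, fun x => f x (σ i) i := by
    funext x
    rw [det_apply, Finset.sum_apply]
    refine Finset.sum_congr rfl fun σ _ => ?_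
    rw [Pi.smul_apply, Finset.prod_apply]
    rfl
  rw [e]
  exact sum_mem fun σ _ => zsmul_mem (prod_mem fun i _ => hf _ _) _

/-- regular maps -/
def Reg (𝒜 : Subalgebra k (X → k)) : Subgroup (X → Gh k) where
  carrier := {f | (fun x => rho k (f x)) ∈ MA 𝒜 D1 ∧ (fun x => rho k (f x)⁻¹) ∈ MA 𝒜 D1}
  one_mem' := ⟨const_mem_MA 𝒜 _, const_mem_MA 𝒜 _⟩
  mul_mem' := by
    intro f g hf hg
    constructor
    · simp only [Pi.mul_apply, map_mul]
      exact mul_mem hf.1 hg.1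
    · simp only [Pi.mul_apply, _root_.mul_inv_rev, map_mul]
      exact mul_mem hg.2 hf.2
  inv_mem' := by
    intro f hf
    refine ⟨hf.2, ?_⟩
    simp only [Pi.inv_apply, inv_inv]
    exact hf.1

variable {𝒜 : Subalgebra k (X → k)}

theorem mem_Reg {f : X → Gh k} :
    f ∈ Reg 𝒜 ↔ (fun x => rho k (f x)) ∈ MA 𝒜 D1 ∧ (fun x => rho k (f x)⁻¹) ∈ MA 𝒜 D1 := Iff.rfl

theorem Reg.const (𝒜 : Subalgebra k (X → k)) (g : Gh k) : (fun _ => g) ∈ Reg 𝒜 := ⟨const_mem_MA 𝒜 _, const_mem_MA 𝒜 _⟩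

theorem Reg.mul {f g : X → Gh k} (hf : f ∈ Reg 𝒜) (hg : g ∈ Reg 𝒜) : (fun x => f x * g x) ∈ Reg 𝒜 := mul_mem hf hg

theorem Reg.inv {f : X → Gh k} (hf : f ∈ Reg 𝒜) : (fun x => (f x)⁻¹) ∈ Reg 𝒜 := inv_mem hf

theorem Reg.comp {Y : Type*} {ℬ : Subalgebra k (Y → k)} {φ : Y → X} (hφ : ∀ f ∈ 𝒜, (fun y => f (φ y)) ∈ ℬ)
    {f : X → Gh k} (hf : f ∈ Reg 𝒜) : (fun y => f (φ y)) ∈ Reg ℬ :=
  ⟨fun i j => hφ _ (hf.1 i j), fun i j => hφ _ (hf.2 i j)⟩

/-- **rigidity** -/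
theorem const_of (hd : ∀ f ∈ 𝒜, ∀ g ∈ 𝒜, f * g = 0 → f = 0 ∨ g = 0) {f : X → Gh k} (hf : f ∈ Reg 𝒜) {N : ℕ}
    (hN : (N : k) ≠ 0) (h : ∀ x, f x ^ N = 1) {x0 : X} (h0 : f x0 = 1) (x : X) : f x = 1 := by
  let P : X → Matrix D1 D1 k := (N : k)⁻¹ • ∑ i ∈ Finset.range N, (fun x => rho k (f x)) ^ i
  have hP : P ∈ MA 𝒜 D1 := Subalgebra.smul_mem _ (sum_mem fun i _ => pow_mem hf.1 i) _
  have e : ∀ x, P x = (N : k)⁻¹ • ∑ i ∈ Finset.range N, rho k (f x) ^ i := fun x => by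
    show (N : k)⁻¹ • (∑ i ∈ Finset.range N, (fun x => rho k (f x)) ^ i) x = _
    rw [Finset.sum_apply]
    rfl
  have h1 : ∀ x, rho k (f x) * P x = P x := fun x => by
    rw [e, mul_smul_comm]
    congr 1
    have h2 := mul_geom_sum (rho k (f x)) N
    rw [← map_pow, h, map_one, sub_self, sub_mul, one_mul, sub_eq_zero] at h2
    exact h2
  have h2 : ∀ x i, rho k (f x) ^ i * P x = P x := fun x i => by
    induction i with
    | zero => rw [pow_zero, one_mul]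
    | succ i ih => rw [pow_succ, mul_assoc, h1, ih]
  have h3 : ∀ x, P x * P x = P x := fun x => by
    conv_lhs => rw [e x, smul_mul_assoc, Finset.sum_mul, ← e x]
    rw [Finset.sum_congr rfl fun i _ => h2 x i, Finset.sum_const, Finset.card_range, ← Nat.cast_smul_eq_nsmul k,
      smul_smul, inv_mul_cancel₀ hN, one_smul]
  have h4 : P x0 = 1 := by
    rw [e, h0, map_one, Finset.sum_congr rfl fun i _ => one_pow i, Finset.sum_const, Finset.card_range,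
      ← Nat.cast_smul_eq_nsmul k, smul_smul, inv_mul_cancel₀ hN, one_smul]
  have hD := det_mem hP
  rcases hd _ hD _ (sub_mem hD (one_mem _)) (funext fun x => by
    show (P x).det * ((P x).det - 1) = 0
    rw [mul_sub, ← det_mul, h3, mul_one, sub_self]) with h5 | h5
  · have h6 : (P x0).det = 0 := congrFun h5 x0
    rw [h4, det_one] at h6
    exact absurd h6 one_ne_zero
  · have h6 : (P x).det - 1 = 0 := congrFun h5 x
    have h7 : IsUnit (P x) := (isUnit_iff_isUnit_det _).2 (by rw [sub_eq_zero.1 h6]; exact isUnit_one)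
    apply rho_injective
    rw [map_one]
    exact h7.mul_right_cancel (by rw [h1, one_mul])

end

variable (k) in
/-- polynomial functions -/
def PA : Subalgebra k (k → k) := Algebra.adjoin k {fun t => t}

variable (k) in
/-- Laurent polynomial functions -/
def LA : Subalgebra k (kˣ → k) := Algebra.adjoin k {fun z : kˣ => (z : k), fun z : kˣ => ((z⁻¹ : kˣ) : k)}

theorem id_mem_PA : (fun t : k => t) ∈ PA k := Algebra.subset_adjoin rfl

theorem val_mem_LA : (fun z : kˣ => (z : k)) ∈ LA k := Algebra.subset_adjoin (Or.inl rfl)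

theorem inv_mem_LA : (fun z : kˣ => ((z⁻¹ : kˣ) : k)) ∈ LA k := Algebra.subset_adjoin (Or.inr rfl)

theorem zpow_mem_LA (n : ℤ) : (fun z : kˣ => ((z ^ n : kˣ) : k)) ∈ LA k := by
  obtain ⟨m, rfl | rfl⟩ := Int.eq_nat_or_neg n
  · simp only [zpow_natCast, Units.val_pow_eq_pow_val]
    exact pow_mem val_mem_LA m
  · simp only [_root_.zpow_neg, zpow_natCast, ← inv_pow, Units.val_pow_eq_pow_val]
    exact pow_mem inv_mem_LA m

/-- substitution into a polynomial function -/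
theorem PA_comp {Y : Type*} {ℬ : Subalgebra k (Y → k)} {φ : Y → k} (hφ : φ ∈ ℬ) : ∀ f ∈ PA k, (fun y => f (φ y)) ∈ ℬ := by
  intro f hf
  induction hf using Algebra.adjoin_induction with
  | mem f hf => rw [hf]; exact hφ
  | algebraMap c => exact ℬ.algebraMap_mem c
  | add f g _ _ hf hg => exact add_mem hf hg
  | mul f g _ _ hf hg => exact mul_mem hf hg

/-- substitution into a Laurent polynomial function -/
theorem LA_comp {Y : Type*} {ℬ : Subalgebra k (Y → k)} {φ : Y → kˣ} (hφ : (fun y => (φ y : k)) ∈ ℬ)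
    (hφ' : (fun y => (((φ y)⁻¹ : kˣ) : k)) ∈ ℬ) : ∀ f ∈ LA k, (fun y => f (φ y)) ∈ ℬ := by
  intro f hf
  induction hf using Algebra.adjoin_induction with
  | mem f hf =>
    rcases hf with hf | hf
    · rw [hf]; exact hφ
    · rw [hf]; exact hφ'
  | algebraMap c => exact ℬ.algebraMap_mem c
  | add f g _ _ hf hg => exact add_mem hf hg
  | mul f g _ _ hf hg => exact mul_mem hf hg

theorem exists_poly_PA {f : k → k} (hf : f ∈ PA k) : ∃ P : Polynomial k, ∀ t, f t = P.eval t := by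
  induction hf using Algebra.adjoin_induction with
  | mem f hf => exact ⟨Polynomial.X, fun t => by rw [hf, Polynomial.eval_X]⟩
  | algebraMap c => exact ⟨Polynomial.C c, fun t => by rw [Polynomial.eval_C]; rfl⟩
  | add f g _ _ hf hg =>
    obtain ⟨P, hP⟩ := hf
    obtain ⟨Q, hQ⟩ := hg
    exact ⟨P + Q, fun t => by rw [Polynomial.eval_add, ← hP, ← hQ]; rfl⟩
  | mul f g _ _ hf hg =>
    obtain ⟨P, hP⟩ := hf
    obtain ⟨Q, hQ⟩ := hg
    exact ⟨P * Q, fun t => by rw [Polynomial.eval_mul, ← hP, ← hQ]; rfl⟩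

theorem exists_poly_LA {f : kˣ → k} (hf : f ∈ LA k) :
    ∃ (N : ℕ) (P : Polynomial k), ∀ z : kˣ, f z * (z : k) ^ N = P.eval (z : k) := by
  induction hf using Algebra.adjoin_induction with
  | mem f hf =>
    rcases hf with hf | hf
    · exact ⟨0, Polynomial.X, fun z => by rw [hf, Polynomial.eval_X, pow_zero, mul_one]⟩
    · exact ⟨1, 1, fun z => by rw [hf, Polynomial.eval_one, pow_one, Units.inv_mul]⟩
  | algebraMap c => exact ⟨0, Polynomial.C c, fun t => by rw [Polynomial.eval_C, pow_zero, mul_one]; rfl⟩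
  | add f g _ _ hf hg =>
    obtain ⟨M, P, hP⟩ := hf
    obtain ⟨N, Q, hQ⟩ := hg
    refine ⟨M + N, P * Polynomial.X ^ N + Q * Polynomial.X ^ M, fun z => ?_⟩
    rw [Polynomial.eval_add, Polynomial.eval_mul, Polynomial.eval_mul, Polynomial.eval_pow, Polynomial.eval_pow,
      Polynomial.eval_X, ← hP, ← hQ, Pi.add_apply]
    ring
  | mul f g _ _ hf hg =>
    obtain ⟨M, P, hP⟩ := hf
    obtain ⟨N, Q, hQ⟩ := hg
    refine ⟨M + N, P * Q, fun z => ?_⟩
    rw [Polynomial.eval_mul, ← hP, ← hQ, Pi.mul_apply]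
    ring

theorem poly_eq_zero [Infinite k] {P : Polynomial k} (h : ∀ z : kˣ, P.eval (z : k) = 0) : P = 0 := by
  refine Polynomial.eq_zero_of_infinite_isRoot P ?_
  refine Set.Infinite.mono (s := {0}ᶜ) (fun t ht => h (Units.mk0 t ht)) ?_
  exact (Set.finite_singleton 0).infinite_compl

theorem dom_PA [Infinite k] : ∀ f ∈ PA k, ∀ g ∈ PA k, f * g = 0 → f = 0 ∨ g = 0 := by
  intro f hf g hg e
  obtain ⟨P, hP⟩ := exists_poly_PA hf
  obtain ⟨Q, hQ⟩ := exists_poly_PA hg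
  rcases mul_eq_zero.1 (poly_eq_zero (P := P * Q) fun z => by
    rw [Polynomial.eval_mul, ← hP, ← hQ]; exact congrFun e z) with h1 | h1
  · exact Or.inl (funext fun t => by rw [hP, h1, Polynomial.eval_zero]; rfl)
  · exact Or.inr (funext fun t => by rw [hQ, h1, Polynomial.eval_zero]; rfl)

theorem dom_LA [Infinite k] : ∀ f ∈ LA k, ∀ g ∈ LA k, f * g = 0 → f = 0 ∨ g = 0 := by
  intro f hf g hg e
  obtain ⟨M, P, hP⟩ := exists_poly_LA hf
  obtain ⟨N, Q, hQ⟩ := exists_poly_LA hg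
  rcases mul_eq_zero.1 (poly_eq_zero (P := P * Q) fun z => by
    rw [Polynomial.eval_mul, ← hP, ← hQ, mul_mul_mul_comm, show f z * g z = 0 from congrFun e z, zero_mul]) with h1 | h1
  · refine Or.inl (funext fun z => ?_)
    have h2 := hP z
    rw [h1, Polynomial.eval_zero] at h2
    exact (mul_eq_zero.1 h2).resolve_right (pow_ne_zero _ z.ne_zero)
  · refine Or.inr (funext fun z => ?_)
    have h2 := hQ z
    rw [h1, Polynomial.eval_zero] at h2
    exact (mul_eq_zero.1 h2).resolve_right (pow_ne_zero _ z.ne_zero)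

/-- **rigidity** of polynomial maps -/
theorem constP [Infinite k] {f : k → Gh k} (hf : f ∈ Reg (PA k)) {N : ℕ} (hN : (N : k) ≠ 0) (h : ∀ x, f x ^ N = 1)
    {x0 : k} (h0 : f x0 = 1) (x : k) : f x = 1 := const_of dom_PA hf hN h h0 x

/-- **rigidity** of Laurent maps -/
theorem constL [Infinite k] {f : kˣ → Gh k} (hf : f ∈ Reg (LA k)) {N : ℕ} (hN : (N : k) ≠ 0) (h : ∀ x, f x ^ N = 1)
    {x0 : kˣ} (h0 : f x0 = 1) (x : kˣ) : f x = 1 := const_of dom_LA hf hN h h0 x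

/-- cocharacters -/
noncomputable def co (g : Gh k) (l : Fin 7 → ℤ) : kˣ →* Gh k where
  toFun z := g * Phi k (lam l z) * g⁻¹
  map_one' := by
    rw [show lam l (1 : kˣ) = 1 from funext fun _ => one_zpow _, map_one, mul_one, mul_inv_cancel]
  map_mul' x y := by
    rw [show lam l (x * y) = lam l x * lam l y from funext fun _ => mul_zpow _ _ _, map_mul]
    group

theorem co_apply (g : Gh k) (l : Fin 7 → ℤ) (z : kˣ) : co g l z = g * Phi k (lam l z) * g⁻¹ := rfl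

theorem co_mul (n g : Gh k) (l : Fin 7 → ℤ) (z : kˣ) : co (n * g) l z = n * co g l z * n⁻¹ := by
  rw [co_apply, co_apply]
  group

theorem emb_co (s : k →+* k) (g : Gh k) (l : Fin 7 → ℤ) (z : kˣ) :
    emb s (co g l z) = co (emb s g) l (Units.map (s : k →* k) z) := by
  rw [co_apply, co_apply, map_mul, map_mul, map_inv, emb_Phi]
  congr 3
  funext i
  exact map_zpow _ _ _

theorem co_mem_Reg (g : Gh k) (l : Fin 7 → ℤ) : (fun z => co g l z) ∈ Reg (LA k) := by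
  have key : ∀ l : Fin 7 → ℤ, (fun z : kˣ => rho k (Phi k (lam l z))) ∈ MA (LA k) D1 := by
    intro l i j
    simp only [wrep_V.tor, ch_lam, diagonal_apply]
    by_cases hij : i = j
    · simp only [hij, if_true]
      exact zpow_mem_LA _
    · simp only [hij, if_false]
      exact zero_mem _
  refine Reg.mul (Reg.mul (Reg.const _ g) ⟨key l, ?_⟩) (Reg.const _ g⁻¹)
  have e : ∀ z : kˣ, (Phi k (lam l z))⁻¹ = Phi k (lam (-l) z) := fun z => by
    rw [← map_inv]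
    exact congrArg _ (funext fun _ => (_root_.zpow_neg _ _).symm)
  simp only [e]
  exact key (-l)

/-- polynomial maps with a non-zero linear term -/
def PL (x : k → Gh k) : Prop := ∃ (N : ℕ) (D : ℕ → Matrix D1 D1 k),
  (∀ t, rho k (x t) = ∑ m ∈ Finset.range (N + 2), t ^ m • D m) ∧ D 1 ≠ 0

theorem PL.reg {x : k → Gh k} (hx : PL x) (add : ∀ s t, x (s + t) = x s * x t) : x ∈ Reg (PA k) := by
  obtain ⟨N, D, h1, -⟩ := hx
  have h0 : x 0 = 1 := (left_eq_mul (a := x 0)).1 (by rw [← add, add_zero])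
  have h2 : (fun t => rho k (x t)) ∈ MA (PA k) D1 := by
    have e : (fun t => rho k (x t)) = ∑ m ∈ Finset.range (N + 2), fun t : k => t ^ m • D m := by
      funext t
      rw [h1, Finset.sum_apply]
    rw [e]
    exact sum_mem fun m _ => smul_mem_MA (pow_mem id_mem_PA m) _
  refine ⟨h2, ?_⟩
  have e : ∀ t, (x t)⁻¹ = x (-t) := fun t => inv_eq_of_mul_eq_one_right (by rw [← add, add_neg_cancel, h0])
  simp only [e]
  exact fun i j => PA_comp (neg_mem id_mem_PA) _ (h2 i j)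

variable (k)

/-- **ADDPOLY** (task ALG-1) -/
def ADDPOLY : Prop := ∀ (x : k → Gh k) (n : ℤ), (∀ s t, x (s + t) = x s * x t) → (∃ t, x t ≠ 1) → n ≠ 0 →
  (fun z : kˣ => x ((z ^ n : kˣ) : k)) ∈ Reg (LA k) → ∃ φ : k ≃+* k, PL fun t => x (φ t)

/-- **UNIQ** (task ALG-1) -/
def UNIQ : Prop := ∀ (x : k → Gh k) (φ : k →+* k), PL x → PL (fun t => x (φ t)) → ∀ t, φ t = t

/-- **FRAME** (task ALG-2) -/
def FRAME : Prop := ∀ Λ : Set (kˣ →* Gh k), (∀ μ ∈ Λ, (fun z => μ z) ∈ Reg (LA k)) →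
  (∀ μ ∈ Λ, ∀ ν ∈ Λ, ∀ x y, μ x * ν y = ν y * μ x) → ∃ g, ∀ μ ∈ Λ, ∃ l, μ = co g l

/-- **LIEPOLY** (task ALG-2) -/
def LIEPOLY : Prop := ∀ (x : k → Gh k) (g : Gh k) (l : Fin 7 → ℤ) (N : ℕ) (D : ℕ → Matrix D1 D1 k), x 0 = 1 →
  (∀ z t, co g l z * x t * (co g l z)⁻¹ = x ((z : k) ^ 2 * t)) →
  (∀ t, rho k (x t) = ∑ m ∈ Finset.range (N + 2), t ^ m • D m) → ∃ e, D 1 = del k e

/-- **RINGD** (task ALG-3): the decomposition of a subring of `k ^ J` -/
def RINGD : Prop := ∀ (J : Type) [Finite J] (B : Subring (J → k)) (ν : B →+* B), Function.Injective ν →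
  (∀ x : B, ν x = x → x * x = x → x = 0 ∨ x = 1) → (∃ j, ∀ t, ∃ x : B, x.1 j = t) →
  ∃ n, 0 < n ∧ ∃ (Θ : B ≃+* (Fin n → k)) (cls : J → Fin n) (φ : J → (k ≃+* k)),
    Function.Surjective cls ∧ ∀ x j, x.1 j = φ j (Θ x (cls j))

/-- **RINGE** (task ALG-3): the injective endomorphisms of `k ^ n` -/
def RINGE : Prop := ∀ (n : ℕ) (f : (Fin n → k) →+* (Fin n → k)), Function.Injective f →
  ∃ (π : Equiv.Perm (Fin n)) (φ : Fin n → (k ≃+* k)), (∀ i t, f (Pi.single i t) = Pi.single (π i) (φ i t)) ∧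
    ((∀ x, f x = x → x * x = x → x = 0 ∨ x = 1) → ∀ i j, ∃ m : ℕ, (π ^ m) i = j)

/-- **COUNT** (task ALG-3) -/
def COUNT (q : ℕ) : Prop := ∀ (n : ℕ) (π : Equiv.Perm (Fin n)), 0 < n → (∀ i j, ∃ m : ℕ, (π ^ m) i = j) →
  Nat.card {v : Fin n → k | ∀ i, v (π i) = v i ^ q} = q ^ n

/-- **LIFT** (task ALG-8) -/
def LIFT : Prop := ∀ (Γ : Subgroup (Gh k × SpecialLinearGroup (Fin 2) k)) (N : ℕ) (x y : k → Gh k), (N : k) ≠ 0 →
  (∀ c, (c, 1) ∈ Γ → c ^ N = 1) → (∀ s t, x (s + t) = x s * x t) → (∀ s t, y (s + t) = y s * y t) →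
  x ∈ Reg (PA k) → y ∈ Reg (PA k) → (∀ t, (x t, u t) ∈ Γ) → (∀ t, (y t, w * u t * w⁻¹) ∈ Γ) →
  ∃ Ξ : SpecialLinearGroup (Fin 2) k →* Gh k, (∀ t, Ξ (u t) = x t) ∧ (∀ t, Ξ (w * u t * w⁻¹) = y t) ∧
    (fun z => Ξ (h z)) ∈ Reg (LA k)

end Kf

namespace Sit

variable {p a b : ℕ} {F : Type u} {K : Type v} {k : Type u} [Field F] [Fintype F] [Field K] [Fintype K] [Field k]
  (S : Sit p a b F K k)

section
variable {I : Type} [Fintype I] [DecidableEq I] (R : Gh k →* Matrix I I k)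

/-- the finite group is absolutely irreducible (task ALG-4) -/
def IRRF : Prop := ∀ Y : Submodule k (I → k), (∀ y0, ∀ x ∈ Y, R (emb S.f y0) *ᵥ x ∈ Y) → Y = ⊥ ∨ Y = ⊤

variable (W : Submodule k (I → k))

/-- good cocharacters -/
structure Good (g : Gh k) (l : Fin 7 → ℤ) : Prop where
  mem : ∀ z, co g l z ∈ S.P ⊓ S.P'
  scal : ∀ θ : Kˣ → k, ∃ n : ℤ, ∀ y ∈ W, (∀ c, R (S.ψ (h c)) *ᵥ y = θ c • y) →
    ∀ z : kˣ, R (co g l z) *ᵥ y = ((z ^ n : kˣ) : k) • y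

/-- the group generated by the good cocharacters -/
def Sg : Subgroup (Gh k) := Subgroup.closure {s | ∃ g l z, S.Good R W g l ∧ s = co g l z}

/-- the group generated by the conjugates of `U` -/
def Ut : Subgroup (Gh k) := Subgroup.closure {y | ∃ s ∈ S.Sg R W, ∃ t, y = s * S.ψ (u t) * s⁻¹}

/-- the properties of `Sg` and `Ut` (task ALG-4) -/
structure Sig : Prop where
  σ : ∀ g l, S.Good R W g l → S.Good R W (S.σ g) l
  nb : ∀ n g l, S.NB n → S.Good R W g l → S.Good R W (n * g) l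
  σS : ∀ s ∈ S.Sg R W, S.σ s ∈ S.Sg R W
  nbS : ∀ n, S.NB n → ∀ s ∈ S.Sg R W, n * s * n⁻¹ ∈ S.Sg R W
  σU : ∀ y ∈ S.Ut R W, S.σ y ∈ S.Ut R W
  nbU : ∀ n, S.NB n → ∀ y ∈ S.Ut R W, n * y * n⁻¹ ∈ S.Ut R W
  sU : ∀ s ∈ S.Sg R W, ∀ y ∈ S.Ut R W, s * y * s⁻¹ ∈ S.Ut R W
  hU : ∀ c, ∀ y ∈ S.Ut R W, S.ψ (h c) * y * (S.ψ (h c))⁻¹ ∈ S.Ut R W
  comm : ∀ s ∈ S.Sg R W, ∀ s' ∈ S.Sg R W, s * s' = s' * s
  leP : S.Sg R W ≤ S.P
  le : S.Ut R W ≤ S.Ru
  fix : ∀ y ∈ S.Ut R W, S.σ y = y → y ∈ S.U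
  nt : ∃ g l z t, S.Good R W g l ∧ co g l z * S.ψ (u t) * (co g l z)⁻¹ ≠ S.ψ (u t)

/-- `Ut` is abelian (task ALG-5) -/
def AbU : Prop := ∀ x ∈ S.Ut R W, ∀ y ∈ S.Ut R W, x * y = y * x

/-- the action on the composition factors of `W` (task ALG-6) -/
structure Sec where
  J : Type
  fin : Finite J
  ι : J → (K →+* k)
  Γ : Subgroup (Gh k × (J → SpecialLinearGroup (Fin 2) k))
  res : ∀ x, (S.ψ x, fun j => SpecialLinearGroup.map (ι j) x) ∈ Γ
  N : ℕ
  hN : (N : k) ≠ 0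
  ker : ∀ y, (y, 1) ∈ Γ → y ^ N = 1
  inj : ∀ x : J → k, (1, fun j => u (x j)) ∈ Γ → x = 0
  cj : ∀ g l, S.Good R W g l → ∃ n : J → ℤ, ∀ (z : kˣ) (y : Gh k) (x : J → k), (y, fun j => u (x j)) ∈ Γ →
    (co g l z * y * (co g l z)⁻¹, fun j => u (((z ^ n j : kˣ) : k) * x j)) ∈ Γ

variable {R} in
theorem TorW.good {S : Sit p a b F K k} (T : S.TorW R) : S.Good R T.W T.g T.l := ⟨T.mem, T.scal⟩

end

/-- the root groups of the algebraic overgroup (task ALG-7) -/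
structure Rts where
  n : ℕ
  npos : 0 < n
  ab : a = n * b
  x : Fin n → k → Gh k
  add : ∀ i s t, x i (s + t) = x i s * x i t
  pl : ∀ i, PL (x i)
  π : Equiv.Perm (Fin n)
  trans : ∀ i j, ∃ m : ℕ, (π ^ m) i = j
  frob : ∀ i t, S.σ (x i t) = x (π i) (S.s t)
  τ : Fin n → (K →+* k)
  res : ∀ t, S.ψ (u t) = (List.ofFn fun i => x i (τ i t)).prod
  norm : ∀ m ∈ S.M, ∀ (c : Kˣ) (α : K ≃+* K), (∀ y, S.ψ (aut c α y) = m * S.ψ y * m⁻¹) →
    ∃ ρ : Equiv.Perm (Fin n), ∀ i t, m * x i t * m⁻¹ = x (ρ i) (τ (ρ i) c * t)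
  Γ : Subgroup (Gh k × (Fin n → SpecialLinearGroup (Fin 2) k))
  N : ℕ
  hN : (N : k) ≠ 0
  ker : ∀ y, (y, 1) ∈ Γ → y ^ N = 1
  xΓ : ∀ i t, (x i t, Pi.mulSingle i (u t)) ∈ Γ
  wΓ : (S.ψ w, fun _ => w) ∈ Γ

end Sit

end Cfsg.Agent.E7P
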