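import Cfsg.Agent.E7P.Ag.Defs
import Cfsg.Agent.R2.T2.Alg.Conj

/-!
# S5932: ALG-2, the linear term of a polynomial root group lies in the Lie algebra (helper77)

* `Kf.liepoly : LIEPOLY k`.
-/

set_option autoImplicit false
set_option maxRecDepth 100000

namespace Cfsg.Agent.E7P

open Cfsg Cfsg.Lie Matrix Module
open Cfsg.Agent.H943.E7V.Block (D1 rho)
open Cfsg.Agent.R2.T1 Cfsg.Agent.E7P.Kf
open Cfsg.Agent.R2.PX (del)
open Cfsg.Agent.BpExc.TorAll (HAlg)

universe u

namespace Kf

variable {k : Type u} [Field k]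

theorem fr_coef [Infinite k] {N : ℕ} {a : ℕ → k} (h : ∀ t : k, ∑ m ∈ Finset.range N, t ^ m * a m = 0) {m : ℕ}
    (hm : m < N) : a m = 0 := by
  have h1 : ∑ m ∈ Finset.range N, Polynomial.monomial m (a m) = 0 := poly_eq_zero fun z => by
    rw [Polynomial.eval_finsetSum, ← h z]
    exact Finset.sum_congr rfl fun m _ => by rw [Polynomial.eval_monomial, mul_comm]
  have h2 := congrArg (fun P : Polynomial k => P.coeff m) h1
  simp only [Polynomial.finsetSum_coeff, Polynomial.coeff_monomial, Polynomial.coeff_zero, Finset.sum_ite_eq',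
    Finset.mem_range, hm, if_true] at h2
  exact h2

theorem fr_zpow [Infinite k] {a b : ℤ} (e : ∀ z : kˣ, z ^ a = z ^ b) : a = b := by
  by_contra hne
  obtain ⟨z, hz⟩ := exists_zpow_ne (K := k) (sub_ne_zero.2 hne)
  exact hz (by rw [_root_.zpow_sub, e, mul_inv_cancel])

theorem fr_liepoly [Infinite k] : LIEPOLY k := by
  intro x g l N D h0 hc hD
  obtain ⟨D', hD'⟩ : ∃ D' : ℕ → Matrix D1 D1 k, ∀ m, D' m = rho k g⁻¹ * D m * rho k g := ⟨_, fun _ => rfl⟩
  have h1 : ∀ t, rho k (g⁻¹ * x t * g) = ∑ m ∈ Finset.range (N + 2), t ^ m • D' m := by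
    intro t
    rw [map_mul, map_mul, hD, Finset.mul_sum, Finset.sum_mul]
    refine Finset.sum_congr rfl fun m _ => ?_
    rw [Matrix.mul_smul, Matrix.smul_mul, hD']
  have h2 : ∀ m < N + 2, ∀ i j, D' m i j ≠ 0 → bf (lE l) (wv i) = bf (lE l) (wv j) + 2 * m := by
    intro m hm i j hij
    have h3 : (∑ r, wc i r * l r) = (∑ r, wc j r * l r) + 2 * m := by
      refine fr_zpow (k := k) fun z => Units.ext ?_
      have h4 : ∀ t : k, Phi k (lam l z) * (g⁻¹ * x t * g) = g⁻¹ * x ((z : k) ^ 2 * t) * g * Phi k (lam l z) := by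
        intro t
        rw [← hc, co_apply]
        group
      have h5 := fr_coef (k := k) (a := fun m => ((z ^ ∑ r, wc i r * l r : kˣ) : k) * D' m i j -
          ((z : k) ^ 2) ^ m * D' m i j * ((z ^ ∑ r, wc j r * l r : kˣ) : k)) (fun t => by
        have h6 := congrFun (congrFun (congrArg (rho k) (h4 t)) i) j
        rw [map_mul, map_mul _ _ (Phi k _), h1, h1, wrep_V.tor, diagonal_mul, mul_diagonal, ch_lam, ch_lam,
          Matrix.sum_apply, Matrix.sum_apply, Finset.mul_sum, Finset.sum_mul, ← sub_eq_zero,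
          ← Finset.sum_sub_distrib] at h6
        rw [← h6]
        refine Finset.sum_congr rfl fun m _ => ?_
        rw [Matrix.smul_apply, Matrix.smul_apply, smul_eq_mul, smul_eq_mul]
        ring) hm
      rw [_root_.zpow_add, Units.val_mul, show (2 * m : ℤ) = ((2 * m : ℕ) : ℤ) by push_cast; rfl, zpow_natCast,
        Units.val_pow_eq_pow_val, pow_mul]
      apply mul_right_cancel₀ hij
      linear_combination h5
    rw [wv, wv, bf_lE, bf_lE, h3]
    push_cast
    rfl
  have h3 : D' 0 = 1 := by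
    have h4 := h1 0
    rw [h0, mul_one, inv_mul_cancel, map_one, Finset.sum_eq_single 0, pow_zero, one_smul] at h4
    · exact h4.symm
    · intro m _ hm
      rw [zero_pow hm, zero_smul]
    · intro hm
      exact absurd (Finset.mem_range.2 (Nat.succ_pos _)) hm
  have h4 : rho k (g⁻¹ * x 1 * g) - 1 - D' 1 = ∑ m ∈ Finset.range N, D' (m + 1 + 1) := by
    rw [h1, Finset.sum_range_succ', Finset.sum_range_succ', h3]
    simp only [one_pow, one_smul, zero_add]
    abel
  have h5 : rho k (g⁻¹ * x 1 * g) - 1 - D' 1 ∈ MGt k (lE l) 2 := by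
    rw [h4]
    refine sum_mem fun m hm i j hij => ?_
    rw [h2 _ (by have := Finset.mem_range.1 hm; omega) i j hij]
    have : (0 : ℝ) ≤ m := Nat.cast_nonneg m
    push_cast
    linarith
  have h6 : ∀ i j, D' 1 i j ≠ 0 → bf (lE l) (wv i) = bf (lE l) (wv j) + 2 := fun i j hij => by
    rw [h2 1 (by omega) i j hij, Nat.cast_one, mul_one]
  have h7 : rho k (g⁻¹ * x 1 * g) - 1 ∈ MGe k (lE l) 2 := by
    rw [← sub_add_cancel (rho k (g⁻¹ * x 1 * g) - 1) (D' 1)]
    exact add_mem (MGt_le h5) fun i j hij => (h6 i j hij).ge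
  obtain ⟨z, hz, h8⟩ := leadu two_pos (mem_Ul_of_stri (STri_iff.2 (MGe_le_MGt two_pos h7))) h7
  have h9 : D' 1 - del k z = 0 := by
    refine eq_zero_of_MGt_neg (β := lE l) (d := 2) ?_ (sub_mem (fun i j hij => ?_) fun i j hij => ?_)
    · have h10 := sub_mem h8 h5
      rwa [sub_sub_sub_cancel_left] at h10
    · rw [map_neg, LinearMap.neg_apply, LinearMap.neg_apply, h6 i j hij]
      linarith
    · obtain ⟨c, h10, h11⟩ := del_ne hij
      rw [map_neg, LinearMap.neg_apply, LinearMap.neg_apply, h11, map_add, mem_Lv.1 hz c h10]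
      linarith
  refine ⟨adM k g *ᵥ z, ?_⟩
  have h10 : rho k g * rho k g⁻¹ = 1 := by rw [← map_mul, mul_inv_cancel, map_one]
  calc D 1 = rho k g * D' 1 * rho k g⁻¹ := by
        rw [hD', Matrix.mul_assoc, Matrix.mul_assoc, h10, Matrix.mul_one, ← Matrix.mul_assoc, h10, Matrix.one_mul]
    _ = del k (adM k g *ᵥ z) := by
        rw [sub_eq_zero.1 h9, R2.T2.Alg.del_equi', Matrix.mul_assoc, h10, Matrix.mul_one]

/-- **LIEPOLY** -/
theorem liepoly [IsAlgClosed k] {p : ℕ} [CharP k p] (_hp : p.Prime) (_hA : HAlg p k) : LIEPOLY k := fr_liepoly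

end Kf

end Cfsg.Agent.E7P
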