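import Cfsg.Agent.E7P.Ag.RtB

/-!
# S5932, ALG-7: the root groups of the algebraic overgroup, `Sit.rts` (helper72)
-/

set_option autoImplicit false
set_option linter.unusedSectionVars false

namespace Cfsg.Agent.E7P

open Cfsg Cfsg.Lie Matrix Module
open Cfsg.Agent.H943.E7V.Block (D1 rho)
open Cfsg.Agent.R2.T1 Cfsg.Agent.E7P.Kf
open Cfsg.Agent.H943.SL2Rel (u w h u_add u_zero u_neg h_u)

universe u v

namespace Rt

section PL

variable {k : Type u} [Field k] {x : k → Gh k}

theorem pl_scale (hx : PL x) {c : k} (hc : c ≠ 0) : PL fun t => x (c * t) := by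
  obtain ⟨N, D, h1, h2⟩ := hx
  refine ⟨N, fun m => c ^ m • D m, fun t => ?_, smul_ne_zero (pow_ne_zero 1 hc) h2⟩
  rw [h1]
  exact Finset.sum_congr rfl fun m _ => by rw [smul_smul, mul_pow, mul_comm]

theorem pl_conj (hx : PL x) (g : Gh k) : PL fun t => g * x t * g⁻¹ := by
  obtain ⟨N, D, h1, h2⟩ := hx
  refine ⟨N, fun m => rho k g * D m * rho k g⁻¹, fun t => ?_, fun h0 => h2 ?_⟩
  · rw [map_mul, map_mul, h1, Finset.mul_sum, Finset.sum_mul]
    exact Finset.sum_congr rfl fun m _ => by rw [mul_smul_comm, smul_mul_assoc]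
  · have h3 := congrArg (fun A => rho k g⁻¹ * A * rho k g) h0
    simp only [← mul_assoc, ← map_mul, inv_mul_cancel, map_one, one_mul, mul_zero, zero_mul] at h3
    rwa [mul_assoc, ← map_mul, inv_mul_cancel, map_one, mul_one] at h3

theorem pl_emb (hx : PL x) (s : k ≃+* k) : PL fun t => emb (s : k →+* k) (x (s.symm t)) := by
  obtain ⟨N, D, h1, h2⟩ := hx
  refine ⟨N, fun m => (D m).map s, fun t => ?_, fun h0 => h2 ?_⟩
  · rw [rho_emb, h1]
    ext i j
    simp only [Matrix.map_apply, Matrix.sum_apply, Matrix.smul_apply, smul_eq_mul, map_sum, map_mul, map_pow,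
      RingHom.coe_coe, RingEquiv.apply_symm_apply]
  · ext i j
    exact s.injective ((congrFun (congrFun h0 i) j).trans (map_zero s).symm)

end PL

variable {p a b : ℕ} {F : Type u} {K : Type v} {k : Type u} [Field F] [Fintype F] [Field K] [Fintype K] [Field k]
  {S : Sit p a b F K k} {I : Type} [Fintype I] [DecidableEq I] {R : Gh k →* Matrix I I k} {W : Submodule k (I → k)}
  {C : S.Sec R W} (hS : S.Sig R W)

/-- the Frobenius endomorphism of the ring -/
theorem exists_frob : ∃ ν : Br C hS →+* Br C hS, Function.Injective ν ∧ (∀ x, S.σ (xi hS x) = xi hS (ν x)) ∧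
    ∀ x, ν x = x ↔ ∃ t, x = ib C hS t := by
  obtain ⟨ν, h1, h2⟩ := exists_end (C := C) hS S.σ (emb_injective S.s) hS.σU hS.σS 1 (RingHom.id K)
    (fun t => by rw [S.k_σ_ψ, Units.val_one, one_mul, RingHom.id_apply]) fun z => S.k_σ_ψ _
  simp only [Units.val_one, map_one, one_mul] at h2
  refine ⟨ν, h1, h2, fun x => ⟨fun h3 => ?_, ?_⟩⟩
  · obtain ⟨t, ht⟩ := hS.fix _ (xi_mem hS x) (by rw [h2, h3])
    exact ⟨t, xi_inj hS (by rw [ht, xi_ib])⟩
  · rintro ⟨t, rfl⟩
    exact xi_inj hS (by rw [← h2, xi_ib, S.k_σ_ψ])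

theorem idem_ib {t : K} (h1 : ib C hS t * ib C hS t = ib C hS t) : ib C hS t = 0 ∨ ib C hS t = 1 := by
  have h2 : t * t = t := S.ψ_u_inj (by rw [← xi_ib (C := C) hS, ← xi_ib (C := C) hS, map_mul, h1])
  rcases IsIdempotentElem.iff_eq_zero_or_one.1 h2 with h3 | h3
  · exact Or.inl (by rw [h3, map_zero])
  · exact Or.inr (by rw [h3, map_one])

/-- the normalised decomposition -/
theorem exists_dec (hD : RINGD k) (hA : ADDPOLY k) : ∃ n, 0 < n ∧ ∃ (Θ : Br C hS ≃+* (Fin n → k)) (cls : C.J → Fin n)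
    (φ : C.J → (k ≃+* k)), (∀ x j, x.1 j = φ j (Θ x (cls j))) ∧ ∀ i, PL fun t => xi hS (Θ.symm (Pi.single i t)) := by
  have := S.closed
  have := C.fin
  obtain ⟨ν, h1, -, h2⟩ := exists_frob (C := C) hS
  obtain ⟨n, hn, Θ, cls, φ, h3, h4⟩ := hD C.J (Br C hS) ν h1 (fun x hx h5 => by
    obtain ⟨t, rfl⟩ := (h2 x).1 hx
    exact idem_ib hS h5) (onto hS)
  have key : ∀ i, ∃ θ : k ≃+* k, PL fun t => xi hS (Θ.symm (Pi.single i (θ t))) := fun i => by
    obtain ⟨j, rfl⟩ := h3 i
    rcases coord hS j with ⟨g, l, hg, m, hm, h5⟩ | h5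
    · have hs : ∀ z, co g l z ∈ S.Sg R W := fun z => Subgroup.subset_closure ⟨g, l, z, hg, rfl⟩
      obtain ⟨θ, hθ⟩ := hA (fun t => xi hS (Θ.symm (Pi.single (cls j) ((φ j).symm t)))) (m j)
        (fun s t => by rw [map_add, Pi.single_add, map_add, xi_add]) ⟨1, fun h6 => by
        have h7 : xi (C := C) hS 0 = 1 := by rw [← map_zero (ib C hS), xi_ib, u_zero, map_one]
        have h8 := congrFun (Θ.symm.injective ((xi_inj hS (h6.trans h7.symm)).trans (map_zero _).symm)) (cls j)
        rw [Pi.single_eq_same, map_one] at h8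
        exact one_ne_zero h8⟩ h5 (by
        have h6 : ∀ z : kˣ, xi hS (Θ.symm (Pi.single (cls j) ((φ j).symm ((z ^ m j : kˣ) : k)))) =
            co g l z * xi hS (Θ.symm (Pi.single (cls j) 1)) * (co g l z)⁻¹ := fun z => by
          rw [← xi_sc hS (c := ⟨_, Sc.mem hS (hm z) (hs z)⟩) (hm z) (hS.sU _ (hs z))]
          congr 1
          refine Θ.injective ?_
          rw [map_mul, RingEquiv.apply_symm_apply, RingEquiv.apply_symm_apply, ← Pi.single_mul_right, mul_one]
          congr 1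
          exact (φ j).symm_apply_eq.2 (h4 ⟨_, Sc.mem hS (hm z) (hs z)⟩ j)
        simp only [h6]
        exact Reg.mul (Reg.mul (co_mem_Reg g l) (Reg.const _ _)) (Reg.inv (co_mem_Reg g l)))
      exact ⟨θ.trans (φ j).symm, hθ⟩
    · exfalso
      refine not_finite_iff_infinite.2 (inferInstance : Infinite k) (Finite.of_surjective (C.ι j) fun t => ?_)
      obtain ⟨s, hs⟩ := h5 (Θ.symm (Pi.single (cls j) ((φ j).symm t)))
      rw [h4, RingEquiv.apply_symm_apply, Pi.single_eq_same, RingEquiv.apply_symm_apply] at hs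
      exact ⟨s, hs.symm⟩
  choose θ hθ using key
  refine ⟨n, hn, Θ.trans (RingEquiv.piCongrRight fun i => (θ i).symm), cls, fun j => (θ (cls j)).trans (φ j),
    fun x j => ?_, fun i => ?_⟩
  · rw [h4]
    exact congrArg (φ j) ((θ (cls j)).apply_symm_apply _).symm
  · have h5 : ∀ t, (Θ.trans (RingEquiv.piCongrRight fun i => (θ i).symm)).symm (Pi.single i t) =
        Θ.symm (Pi.single i (θ i t)) := fun t =>
      congrArg Θ.symm (funext fun j => Pi.apply_single (fun j => θ j) (fun j => map_zero _) i t j)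
    simp only [h5]
    exact hθ i

end Rt

open Rt in
/-- **ALG-7** -/
theorem Sit.rts {p a b : ℕ} {F : Type u} {K : Type v} {k : Type u} [Field F] [Fintype F] [Field K] [Fintype K] [Field k]
    (S : Sit p a b F K k) {I : Type} [Fintype I] [DecidableEq I] {R : Gh k →* Matrix I I k} {W : Submodule k (I → k)}
    (hS : S.Sig R W) (C : S.Sec R W) (hD : RINGD k) (hE : RINGE k) (hC : COUNT k (p ^ b)) (hA : ADDPOLY k)
    (hU : UNIQ k) : Nonempty S.Rts := by
  have := S.closed
  obtain ⟨n, hn, Θ, cls, φ, h1, h2⟩ := exists_dec (C := C) hS hD hA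
  obtain ⟨ν, h3, h4, h5⟩ := exists_frob (C := C) hS
  have hend : ∀ μ : Br C hS →+* Br C hS, Function.Injective μ → ∃ (π : Equiv.Perm (Fin n)) (φ : Fin n → (k ≃+* k)),
      (∀ i t, μ (Θ.symm (Pi.single i t)) = Θ.symm (Pi.single (π i) (φ i t))) ∧
      ((∀ x, μ x = x → x * x = x → x = 0 ∨ x = 1) → ∀ i j, ∃ m : ℕ, (π ^ m) i = j) := fun μ hμ => by
    obtain ⟨π, φ, h6, h7⟩ := hE n ((Θ : Br C hS →+* (Fin n → k)).comp (μ.comp (Θ.symm : (Fin n → k) →+* Br C hS)))
      (Θ.injective.comp (hμ.comp Θ.symm.injective))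
    refine ⟨π, φ, fun i t => Θ.eq_symm_apply.2 (h6 i t), fun h8 => h7 fun x hx h9 => ?_⟩
    rcases h8 (Θ.symm x) (Θ.eq_symm_apply.2 hx) (by rw [← map_mul, h9]) with h10 | h10
    · exact Or.inl (Θ.symm.injective (h10.trans (map_zero _).symm))
    · exact Or.inr (Θ.symm.injective (h10.trans (map_one _).symm))
  obtain ⟨π, φ', h6, h7⟩ := hend ν h3
  have h8 := h7 fun x hx h9 => by
    obtain ⟨t, rfl⟩ := (h5 x).1 hx
    exact idem_ib hS h9
  let s : k ≃+* k := RingEquiv.ofBijective S.s ⟨S.s.injective, fun t => by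
    obtain ⟨y, hy⟩ := IsAlgClosed.exists_pow_nat_eq t (Nat.card_pos (α := F))
    exact ⟨y, (S.frob y).trans hy⟩⟩
  have h9 : ∀ i t, φ' i t = S.s t := fun i t => by
    have h10 := pl_emb (h2 i) s
    have h11 : ∀ t, emb (s : k →+* k) (xi hS (Θ.symm (Pi.single i (s.symm t)))) =
        xi hS (Θ.symm (Pi.single (π i) ((s.symm.trans (φ' i) : k →+* k) t))) := fun t =>
      (h4 _).trans (congrArg _ (h6 i _))
    simp only [h11] at h10
    have h12 := hU _ _ (h2 (π i)) h10 (s t)
    exact (congrArg (φ' i) (s.symm_apply_apply t)).symm.trans h12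
  have hsum : ∀ v : Fin n → k, Θ.symm v = ∑ i, Θ.symm (Pi.single i (v i)) := fun v => by
    rw [← map_sum, Finset.univ_sum_single]
  have h10 : ∀ (v : Fin n → k) i, Θ (ν (Θ.symm v)) (π i) = v i ^ p ^ b := fun v i => by
    rw [hsum, map_sum]
    simp only [h6, h9]
    rw [← map_sum, RingEquiv.apply_symm_apply, Finset.sum_apply, Finset.sum_eq_single i, Pi.single_eq_same, S.frob,
      Nat.card_eq_fintype_card, S.cardF]
    · exact fun j _ hj => Pi.single_eq_of_ne (fun e => hj (π.injective e).symm) _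
    · exact fun h => absurd (Finset.mem_univ i) h
  have hab : a = n * b := by
    have h11 := hC n π hn h8
    have h12 : Nat.card K = Nat.card {v : Fin n → k | ∀ i, v (π i) = v i ^ p ^ b} := by
      refine Nat.card_congr (Equiv.ofBijective (fun t => ⟨Θ (ib C hS t), fun i => ?_⟩) ⟨fun s t e => ?_, fun v => ?_⟩)
      · rw [← h10, RingEquiv.symm_apply_apply, (h5 _).2 ⟨t, rfl⟩]
      · exact S.ψ_u_inj (by
          rw [← xi_ib (C := C) hS, ← xi_ib (C := C) hS, Θ.injective (congrArg Subtype.val e)])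
      · obtain ⟨t, ht⟩ := (h5 (Θ.symm v.1)).1 (Θ.eq_symm_apply.2 (funext fun j => by
          obtain ⟨i, rfl⟩ := π.surjective j
          rw [h10, v.2]))
        exact ⟨t, Subtype.ext (Θ.symm_apply_eq.1 ht).symm⟩
    rw [h11, Nat.card_eq_fintype_card, S.cardK, ← pow_mul, mul_comm] at h12
    exact Nat.pow_right_injective S.prime.two_le h12
  let lift : Gh k × (Fin n → SpecialLinearGroup (Fin 2) k) →* Gh k × (C.J → SpecialLinearGroup (Fin 2) k) :=
    (MonoidHom.id _).prodMap (MonoidHom.pi fun j =>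
      (SpecialLinearGroup.map (φ j : k →+* k)).comp (Pi.evalMonoidHom (fun _ => SpecialLinearGroup (Fin 2) k) (cls j)))
  refine ⟨{ n := n
            npos := hn
            ab := hab
            x := fun i t => xi hS (Θ.symm (Pi.single i t))
            add := fun i s t => by rw [Pi.single_add, map_add, xi_add]
            pl := h2
            π := π
            trans := h8
            frob := fun i t => by rw [h4, h6, h9]
            τ := fun i => (Pi.evalRingHom (fun _ => k) i).comp ((Θ : Br C hS →+* (Fin n → k)).comp (ib C hS))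
            res := fun t => ?_
            norm := fun m hm c α hα => ?_
            Γ := C.Γ.comap lift
            N := C.N
            hN := C.hN
            ker := fun y hy => C.ker y ?_
            xΓ := fun i t => ?_
            wΓ := ?_ }⟩
  · let ξ : Multiplicative (Br C hS) →* Gh k := MonoidHom.mk' (fun x => xi hS x.toAdd) fun x y => xi_add hS _ _
    have h11 := map_list_prod ξ (List.ofFn fun i => Multiplicative.ofAdd (Θ.symm (Pi.single i (Θ (ib C hS t) i))))
    rw [List.prod_ofFn, ← ofAdd_sum, ← hsum, RingEquiv.symm_apply_apply, List.map_ofFn] at h11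
    exact (xi_ib hS t).symm.trans h11
  · have hnb : S.NB m := ⟨hm, c, α, hα⟩
    obtain ⟨μ, h11, h12⟩ := exists_end (C := C) hS (MulAut.conj m).toMonoidHom (MulAut.conj m).injective
      (hS.nbU m hnb) (hS.nbS m hnb) c α (fun t => (hα _).symm.trans (by rw [aut_u]; rfl))
      fun z => (hα _).symm.trans (by rw [aut_h]; rfl)
    obtain ⟨ρ, φ'', h13, -⟩ := hend μ h11
    have h14 : ∀ i t, m * xi hS (Θ.symm (Pi.single i t)) * m⁻¹ =
        xi hS (Θ.symm (Pi.single (ρ i) (Θ (ib C hS c) (ρ i) * φ'' i t))) := fun i t => by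
      refine (h12 _).trans (congrArg _ (Θ.injective ?_))
      rw [h13, map_mul, RingEquiv.apply_symm_apply, RingEquiv.apply_symm_apply, ← Pi.single_mul_right]
    refine ⟨ρ, fun i t => ?_⟩
    have h15 : Θ (ib C hS c) (ρ i) ≠ 0 :=
      ((c.isUnit.map (ib C hS)).map Θ).map (Pi.evalRingHom (fun _ => k) (ρ i)) |>.ne_zero
    have h16 := pl_conj (h2 i) m
    simp only [h14] at h16
    rw [h14, show φ'' i t = t from hU _ (φ'' i : k →+* k) (pl_scale (h2 (ρ i)) h15) h16 t]
    rfl
  · have h11 : (y, fun j => SpecialLinearGroup.map (φ j : k →+* k) (1 : SpecialLinearGroup (Fin 2) k)) ∈ C.Γ := hy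
    simp only [map_one] at h11
    exact h11
  · have h11 : ∀ j, SpecialLinearGroup.map (φ j : k →+* k)
        ((Pi.mulSingle i (u t) : Fin n → SpecialLinearGroup (Fin 2) k) (cls j)) =
        u ((Θ.symm (Pi.single i t)).1 j) := fun j => by
      rw [h1, RingEquiv.apply_symm_apply]
      by_cases h12 : cls j = i
      · rw [h12, Pi.single_eq_same, Pi.mulSingle_eq_same, Rt.map_u]
        rfl
      · rw [Pi.single_eq_of_ne h12, Pi.mulSingle_eq_of_ne h12, map_zero, map_one, u_zero]
    change (xi hS (Θ.symm (Pi.single i t)), fun j => SpecialLinearGroup.map (φ j : k →+* k)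
      ((Pi.mulSingle i (u t) : Fin n → SpecialLinearGroup (Fin 2) k) (cls j))) ∈ C.Γ
    simp only [h11]
    exact xi_rel hS _
  · have h11 := C.res w
    change (S.ψ w, fun j => SpecialLinearGroup.map (φ j : k →+* k) (w : SpecialLinearGroup (Fin 2) k)) ∈ C.Γ
    simp only [Rt.map_w] at h11 ⊢
    exact h11

end Cfsg.Agent.E7P
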