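import Cfsg.Agent.E7P.Ag.Defs
import Cfsg.Agent.E7P.Ag.SeB

/-!
# S5932, task ALG-6: the action on the composition factors of `W` (helper33)

* `Sit.se_K1` : the elements which are trivial on all simple sections of `W` have bounded order prime to `p`;
* `Sit.sec` : **Sec**.
-/

set_option autoImplicit false

namespace Cfsg.Agent.E7P

open Cfsg Cfsg.Lie Matrix Module
open Cfsg.Agent.R2.T1 Cfsg.Agent.E7P.Kf Cfsg.Agent.E7P.Se
open Cfsg.Agent.H943.SL2Rel (u w h)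

universe u v

namespace Se

/-- the representation which is given by matrices -/
noncomputable def rp {k G I : Type*} [Field k] [Group G] [Fintype I] [DecidableEq I] (R : G →* Matrix I I k) :
    Representation k G (I → k) where
  toFun g := Matrix.toLin' (R g)
  map_one' := by rw [map_one, Matrix.toLin'_one]; rfl
  map_mul' x y := by rw [map_mul, Matrix.toLin'_mul]; rfl

theorem K1_conj {k : Type u} [Field k] {G A : Type*} [Group G] [Group A] {E : Type u} [AddCommGroup E] [Module k E]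
    [FiniteDimensional k E] {L : Representation k G E} {ψ : A →* G} {W : Submodule k E} {m : G}
    (hW : ∀ x ∈ W, L m⁻¹ x ∈ W) (hA : ∀ g, ∃ g', m * ψ g * m⁻¹ = ψ g') (hA' : ∀ g, ∃ g', m⁻¹ * ψ g * m⁻¹⁻¹ = ψ g')
    {y : G} (hy : y ∈ K1 L ψ W) : m * y * m⁻¹ ∈ K1 L ψ W := by
  have h1 : ∀ m y x, L m (L y x) = L (m * y * m⁻¹) (L m x) := fun m y x => by rw [mul_app, mul_app, inv_app]
  exact K1_tr ⟨⟨L m, L m⁻¹, inv_app L m, app_inv L m⟩, map_add (L m)⟩ (fun c x => ⟨c, map_smul (L m) c x⟩)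
    (fun c x => ⟨c, map_smul (L m⁻¹) c x⟩) (fun x hx => inv_app L m x ▸ hW _ hx)
    (fun g => (hA g).imp fun g' e x => e ▸ h1 m _ x) (fun g => (hA' g).imp fun g' e x => e ▸ h1 m⁻¹ _ x) (h1 m y) hy

theorem rp_apply {k G I : Type*} [Field k] [Group G] [Fintype I] [DecidableEq I] (R : G →* Matrix I I k) (g : G)
    (x : I → k) : rp R g x = R g *ᵥ x := rfl

theorem sec_gen {k : Type u} [Field k] [IsAlgClosed k] {F : Type*} [Field F] [Fintype F] (ι : F →+* k) {p a : ℕ}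
    (hp : p.Prime) [CharP k p] [CharP F p] (hF : Fintype.card F = p ^ a) (ha : 1 ≤ a) {G : Type*} [Group G] {I : Type}
    [Fintype I] [DecidableEq I] (R : G →* Matrix I I k) (ψ : SpecialLinearGroup (Fin 2) F →* G) (W : Submodule k (I → k)) :
    ∃ (J : Type) (_ : Finite J) (ι' : J → (F →+* k)) (Γ : Subgroup (G × (J → SpecialLinearGroup (Fin 2) k))),
      (∀ x, (ψ x, fun j => SpecialLinearGroup.map (ι' j) x) ∈ Γ) ∧ (∀ y, (y, 1) ∈ Γ → y ∈ K1 (rp R) ψ W) ∧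
      (∀ x : J → k, (1, fun j => u (x j)) ∈ Γ → x = 0) ∧ ∀ s : kˣ →* G,
      (∀ θ : Fˣ → k, ∃ n : ℤ, ∀ y ∈ W, (∀ c, R (ψ (h c)) *ᵥ y = θ c • y) → ∀ z : kˣ, R (s z) *ᵥ y = ((z ^ n : kˣ) : k) • y) →
      (∀ z t t', s z * ψ (u t) * (s z)⁻¹ * ψ (u t') = ψ (u t') * (s z * ψ (u t) * (s z)⁻¹)) →
      ∃ n : J → ℤ, ∀ (z : kˣ) (y : G) (x : J → k), (y, fun j => u (x j)) ∈ Γ →
        (s z * y * (s z)⁻¹, fun j => u (((z ^ n j : kˣ) : k) * x j)) ∈ Γ := by
  classical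
  have : Fact p.Prime := ⟨hp⟩
  obtain ⟨⟨M⟩, hc⟩ := exists_md ι p hF
  refine ⟨{x // Oc p a (rp R) ψ W (fun b : Fin (Fintype.card F) => R2.H28.SL2.RB ι p (Nat.le_sub_one_of_lt b.2)) x},
    inferInstance, fun j => Alm.fr ι p j.1.2, M.Γ (rp R) ψ W, ?_, ?_, ?_, ?_⟩
  · exact M.res
  · exact fun y hy => M.ker hc hy
  · exact M.inj
  intro s hs hc
  choose m hm using hs
  exact ⟨_, M.cj hF ha s m hm hc⟩

end Se

namespace Sit

variable {p a b : ℕ} {F : Type u} {K : Type v} {k : Type u} [Field F] [Fintype F] [Field K] [Fintype K] [Field k]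
  (S : Sit p a b F K k) {I : Type} [Fintype I] [DecidableEq I] {c : I → Fin 7 → ℤ} {R : Gh k →* Matrix I I k}

theorem se_σ (hR : WRep c R) {W : Submodule k (I → k)} (hW : S.Stb R W) {y : Gh k} (hy : y ∈ K1 (rp R) S.ψ W) :
    S.σ y ∈ K1 (rp R) S.ψ W := by
  have := S.closed
  let s : k ≃+* k := RingEquiv.ofBijective S.s ⟨S.s.injective, fun t =>
    (IsAlgClosed.exists_pow_nat_eq t (Nat.card_pos (α := F))).imp fun z hz => (S.frob z).trans hz⟩
  let f : (I → k) ≃+ (I → k) := AddEquiv.piCongrRight fun _ => s.toAddEquiv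
  have h1 : ∀ y x, f (rp R y x) = rp R (S.σ y) (f x) := fun y x => S.sv_mulVec hR y x
  refine K1_tr f (fun c x => ⟨s c, funext fun i => map_mul s c (x i)⟩)
    (fun c x => ⟨s.symm c, funext fun i => map_mul s.symm c (x i)⟩) (fun x hx => ?_)
    (fun g => ⟨g, fun x => by rw [h1, S.k_σ_ψ]⟩) (fun g => ⟨g, fun x => f.injective ?_⟩) (h1 y) hy
  · obtain ⟨x', hx', e⟩ := S.k_sv_surj (X := (W : Set (I → k))) hW.2 _ hx
    rw [f.injective (a₂ := x') e]
    exact hx'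
  · rw [h1, S.k_σ_ψ, f.apply_symm_apply, f.apply_symm_apply]

/-- the elements which are trivial on all simple sections -/
theorem se_K1 (hs : S.SSC) (hR : WRep c R) (T : S.TorW R) :
    ∃ N : ℕ, (N : k) ≠ 0 ∧ ∀ y ∈ K1 (rp R) S.ψ T.W, y ^ N = 1 := by
  classical
  have := S.chark
  have : Fact p.Prime := ⟨S.prime⟩
  obtain ⟨N, hN, h1⟩ := T.expo
  have hW : As (rp R) S.ψ T.W := fun g => T.stb.1 _ (S.k_ψ_mem g)
  obtain ⟨e, he⟩ := K1_pow p hW
  have h2 : ∃ x, S.ψ x ∉ K1 (rp R) S.ψ T.W := by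
    by_contra h2
    push Not at h2
    obtain ⟨d, hd⟩ := exists_pow_ne_one_of_isCyclic (G := Kˣ) two_ne_zero (by
      have := S.k_four
      rw [Nat.card_units, Nat.card_eq_fintype_card]
      omega)
    have h3 : ((d ^ p ^ e : Kˣ) : K) ^ 2 - 1 ≠ 0 := fun h3 => hd (S.units_eq_one (n := e) (Units.ext (by
      rw [← pow_mul, mul_comm, pow_mul, Units.val_pow_eq_pow_val]
      exact sub_eq_zero.1 h3)))
    have h4 : ∀ x ∈ T.W, rp R (S.ψ (h (d ^ p ^ e))) x = x := by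
      rw [H943.SL2Rel.h_pow, map_pow]
      exact he _ (h2 _)
    have h5 := h1 (S.ψ (u (((d ^ p ^ e : Kˣ) : K) ^ 2 - 1))) fun x hx => by
      show rp R _ x = x
      have h6 := hW (u 1)⁻¹ x hx
      have h7 : rp R (S.ψ (h (d ^ p ^ e)))⁻¹ (rp R (S.ψ (u 1)⁻¹) x) = rp R (S.ψ (u 1)⁻¹) x := by
        conv_lhs => rw [← h4 _ h6, inv_app]
      rw [sub_eq_add_neg, H943.SL2Rel.u_add, H943.SL2Rel.u_neg, ← mul_one (_ ^ 2), ← Alm.h_u_h, map_mul S.ψ, map_mul S.ψ,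
        map_mul S.ψ, mul_app, mul_app, mul_app, map_inv S.ψ (h _), h7, map_inv, app_inv, h4 x hx]
    refine S.ψ_u_ne h3 ?_
    have h6 := pow_gcd_eq_one.2 ⟨h5, S.ψ_u_pow _⟩
    rwa [(Nat.coprime_comm.1 ((Nat.Prime.coprime_iff_not_dvd S.prime).2 fun h =>
      hN ((CharP.cast_eq_zero_iff k p N).2 h))).gcd_eq_one, pow_one] at h6
  have h3 : ∀ (e : ℕ), ∀ y ∈ K1 (rp R) S.ψ T.W, y ^ p ^ e = 1 → y = 1 := fun e => by
    induction e with
    | zero => intro y _ h; rwa [pow_zero, pow_one] at h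
    | succ e ih =>
      intro y hy h
      rw [pow_succ, pow_mul] at h
      exact ih y hy (S.nop_of_not hs (fun x => S.se_σ hR T.stb) (fun m hm x => K1_conj (T.stb.1 _ (inv_mem hm))
        (S.norm_ψ hm) (S.norm_ψ (inv_mem hm))) h2 (pow_mem hy _) h)
  exact ⟨N, hN, fun y hy => h3 e _ (pow_mem hy N) (by rw [← pow_mul, mul_comm, pow_mul]; exact h1 _ (he y hy))⟩

/-- **Sec** (task ALG-6) -/
theorem sec (hs : S.SSC) (hR : WRep c R) (T : S.TorW R) (ha : S.AbU R T.W) : Nonempty (S.Sec R T.W) := by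
  have := S.closed
  have := S.chark
  have := S.charK
  obtain ⟨J, h0, ι, Γ, h1, h2, h3, h4⟩ := sec_gen S.ι S.prime S.cardK S.ha R S.ψ T.W
  obtain ⟨N, hN, h5⟩ := S.se_K1 hs hR T
  refine ⟨⟨J, h0, ι, Γ, h1, N, hN, fun y hy => h5 y (h2 y hy), h3, fun g l hg =>
    h4 (co g l) hg.scal fun z t t' => ha _ ?_ _ ?_⟩⟩
  · exact Subgroup.subset_closure ⟨_, Subgroup.subset_closure ⟨g, l, z, hg, rfl⟩, t, rfl⟩
  · exact Subgroup.subset_closure ⟨1, one_mem _, t', by rw [one_mul, inv_one, mul_one]⟩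

end Sit

end Cfsg.Agent.E7P
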