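import Cfsg.Agent.E7P.Ag.Defs

/-!
# S5932: the finite group is absolutely irreducible (helper94, task ALG-4)

* `Kf.siSt` : the stabiliser of a subspace;
* `Sit.irrfV`, `Sit.irrfL`.
-/

set_option autoImplicit false
set_option maxRecDepth 100000

namespace Cfsg.Agent.E7P

open Cfsg Cfsg.Lie Matrix Module
open Cfsg.Agent.H943.E7V.Block (D1 rho)
open Cfsg.Agent.R2.T1 Cfsg.Agent.E7P.Kf

universe u v

namespace Kf

variable {k : Type u} [Field k] {I : Type} [Fintype I] [DecidableEq I]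

/-- the stabiliser of a subspace -/
def siSt (R : Gh k →* Matrix I I k) (Y : Submodule k (I → k)) : Subgroup (Gh k) where
  carrier := {g | (∀ y ∈ Y, R g *ᵥ y ∈ Y) ∧ ∀ y ∈ Y, R g⁻¹ *ᵥ y ∈ Y}
  one_mem' := ⟨fun y hy => by rwa [map_one, one_mulVec], fun y hy => by rwa [inv_one, map_one, one_mulVec]⟩
  mul_mem' := fun ha hb => ⟨fun y hy => by rw [mulVec_mul]; exact ha.1 _ (hb.1 y hy),
    fun y hy => by rw [_root_.mul_inv_rev, mulVec_mul]; exact hb.2 _ (ha.2 y hy)⟩
  inv_mem' := fun ha => ⟨ha.2, by rw [inv_inv]; exact ha.1⟩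

theorem si_of_xs {R : Gh k →* Matrix I I k} {Y : Submodule k (I → k)}
    (h : ∀ r < 126, ∀ t, ∀ y ∈ Y, R (xs k r t) *ᵥ y ∈ Y) (g : Gh k) : ∀ y ∈ Y, R g *ᵥ y ∈ Y :=
  (mem_of_gens (S := siSt R Y) (fun r hr t => ⟨h r hr t, by rw [xs_inv]; exact h r hr _⟩) g).1

/-- the eigenvectors of a semisimple matrix span every invariant subspace -/
theorem si_span [IsAlgClosed k] {A : Matrix I I k} {N : ℕ} (hN : (N : k) ≠ 0) (hA : A ^ N = 1)
    {Y : Submodule k (I → k)} (hY : ∀ y ∈ Y, A *ᵥ y ∈ Y) {P : (I → k) → Prop} (h0 : P 0)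
    (ha : ∀ x y, P x → P y → P (x + y)) (he : ∀ (μ : k), ∀ y ∈ Y, A *ᵥ y = μ • y → P y) : ∀ y ∈ Y, P y := by
  let f : End k Y := (toLin' A).restrict (p := Y) (q := Y) fun y hy => hY y hy
  have h1 : ∀ (n : ℕ) (y : Y), ((f ^ n) y : I → k) = A ^ n *ᵥ y := by
    intro n
    induction n with
    | zero => intro y; rw [pow_zero, pow_zero, one_mulVec]; rfl
    | succ n ih =>
      intro y
      rw [pow_succ, pow_succ, End.mul_apply, ih, ← mulVec_mulVec]
      rfl
  have h2 : f.IsSemisimple := by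
    refine End.isSemisimple_of_squarefree_aeval_eq_zero (p := Polynomial.X ^ N - 1)
      (Polynomial.X_pow_sub_one_separable_iff.2 hN).squarefree ?_
    rw [map_sub, map_pow, Polynomial.aeval_X, map_one, sub_eq_zero]
    refine LinearMap.ext fun y => Subtype.ext ?_
    rw [h1, hA, one_mulVec]
    rfl
  intro y hy
  have h3 : (⟨y, hy⟩ : Y) ∈ ⨆ μ : k, f.eigenspace μ := h2.iSup_eigenspace_eq_top ▸ Submodule.mem_top
  exact Submodule.iSup_induction (fun μ : k => f.eigenspace μ) (motive := fun x : Y => P x) h3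
    (fun μ x hx => he μ x x.2 (congrArg Subtype.val (End.mem_eigenspace_iff.1 hx))) h0 (fun x y => ha x y)

end Kf

namespace Sit

variable {p a b : ℕ} {F : Type u} {K : Type v} {k : Type u} [Field F] [Fintype F] [Field K] [Fintype K] [Field k]
  (S : Sit p a b F K k)

/-- **the finite group is absolutely irreducible on `V`** -/
theorem irrfV : S.IRRF (rho k) := by
  intro Y hY
  refine or_iff_not_imp_left.2 fun h0 => irred (fun g => si_of_xs (R := rho k) (fun r hr t y hy => ?_) g) h0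
  have h1 := hY (xs F r 1) y hy
  rw [emb_xs, map_one, rho_xs' hr, one_smul, add_mulVec, one_mulVec] at h1
  rw [rho_xs' hr, add_mulVec, one_mulVec, smul_mulVec]
  exact add_mem hy (Y.smul_mem _ ((add_mem_cancel_left hy).1 h1))

include S in
theorem si_two (hp : p ≠ 2) : (2 : k) ≠ 0 := by
  have := S.chark
  exact fun h => hp ((Nat.prime_dvd_prime_iff_eq S.prime Nat.prime_two).1
    ((CharP.cast_eq_zero_iff k p 2).1 (by exact_mod_cast h)))

/-- **the finite group is absolutely irreducible on the Lie algebra** -/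
theorem irrfL (hp : p ≠ 2) : S.IRRF (adM k) := by
  intro Y hY
  have h2 := S.si_two hp
  refine or_iff_not_imp_left.2 fun h0 => irrL_aux h2 (fun g y hy => ?_) h0
  rw [L_mulVec]
  refine si_of_xs (R := adM k) (fun r hr t y hy => ?_) g y hy
  have h1 := hY (xs F r 1) y hy
  have h3 := hY (xs F r (-1)) y hy
  rw [emb_xs, map_one, adM_xs hr, add_mulVec, add_mulVec, one_mulVec, smul_mulVec, smul_mulVec] at h1
  rw [emb_xs, map_neg, map_one, adM_xs hr, add_mulVec, add_mulVec, one_mulVec, smul_mulVec, smul_mulVec] at h3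
  rw [adM_xs hr, add_mulVec, add_mulVec, one_mulVec, smul_mulVec, smul_mulVec]
  generalize EM k r *ᵥ y = e at *
  generalize QM k r *ᵥ y = q at *
  have h4 : e ∈ Y := by
    have h5 := Y.smul_mem (2 : k)⁻¹ (sub_mem h1 h3)
    rwa [show y + (1 : k) • e + (1 : k) ^ 2 • q - (y + (-1 : k) • e + (-1 : k) ^ 2 • q) = (2 : k) • e by module,
      smul_smul, inv_mul_cancel₀ h2, one_smul] at h5
  have h5 : q ∈ Y := by
    have h6 := sub_mem (sub_mem h1 hy) h4
    rwa [show y + (1 : k) • e + (1 : k) ^ 2 • q - y - e = q by module] at h6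
  exact add_mem (add_mem hy (Y.smul_mem _ h4)) (Y.smul_mem _ h5)

end Sit

end Cfsg.Agent.E7P
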